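import Cfsg.Agent.Spor.An11.D0

set_option autoImplicit false
set_option maxRecDepth 100000000
set_option Elab.async false

namespace Cfsg.Agent.Spor.An11

theorem ok0 : Net.okb 4 n0 = true := by decide +kernel

theorem ok1 : Net.okb 4 n1 = true := by decide +kernel

theorem ok2 : Net.okb 4 n2 = true := by decide +kernel

theorem ok3 : Net.okb 4 n3 = true := by decide +kernel

theorem ok4 : Net.okb 4 n4 = true := by decide +kernel

theorem ok5 : Net.okb 4 n5 = true := by decide +kernel

theorem ok6 : Net.okb 4 n6 = true := by decide +kernel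

theorem ok7 : Net.okb 4 n7 = true := by decide +kernel

theorem ok8 : Net.okb 4 n8 = true := by decide +kernel

theorem rel0 : T.rel 4 [1, 1, 1] 0 4 = true := by decide +kernel

theorem rel1 : T.rel 4 [2, 2, 2] 0 4 = true := by decide +kernel

theorem rel2 : T.rel 4 [3, 3, 3] 0 4 = true := by decide +kernel

theorem rel3 : T.rel 4 [4, 4, 4] 0 4 = true := by decide +kernel

theorem rel4 : T.rel 4 [5, 5, 5] 0 4 = true := by decide +kernel

theorem rel5 : T.rel 4 [6, 6, 6] 0 4 = true := by decide +kernel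

theorem rel6 : T.rel 4 [7, 7, 7] 0 4 = true := by decide +kernel

theorem rel7 : T.rel 4 [8, 8, 8] 0 4 = true := by decide +kernel

theorem rel8 : T.rel 4 [9, 9, 9] 0 4 = true := by decide +kernel

theorem rel9 : T.rel 4 [2, 1, 2, 1] 0 4 = true := by decide +kernel

theorem rel10 : T.rel 4 [3, 1, 3, 1] 0 4 = true := by decide +kernel

theorem rel11 : T.rel 4 [4, 1, 4, 1] 0 4 = true := by decide +kernel

theorem rel12 : T.rel 4 [5, 1, 5, 1] 0 4 = true := by decide +kernel

theorem rel13 : T.rel 4 [6, 1, 6, 1] 0 4 = true := by decide +kernel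

theorem rel14 : T.rel 4 [7, 1, 7, 1] 0 4 = true := by decide +kernel

theorem rel15 : T.rel 4 [8, 1, 8, 1] 0 4 = true := by decide +kernel

theorem rel16 : T.rel 4 [9, 1, 9, 1] 0 4 = true := by decide +kernel

theorem rel17 : T.rel 4 [3, 2, 3, 2] 0 4 = true := by decide +kernel

theorem rel18 : T.rel 4 [4, 2, 4, 2] 0 4 = true := by decide +kernel

theorem rel19 : T.rel 4 [5, 2, 5, 2] 0 4 = true := by decide +kernel

theorem rel20 : T.rel 4 [6, 2, 6, 2] 0 4 = true := by decide +kernel

theorem rel21 : T.rel 4 [7, 2, 7, 2] 0 4 = true := by decide +kernel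

theorem rel22 : T.rel 4 [8, 2, 8, 2] 0 4 = true := by decide +kernel

theorem rel23 : T.rel 4 [9, 2, 9, 2] 0 4 = true := by decide +kernel

theorem rel24 : T.rel 4 [4, 3, 4, 3] 0 4 = true := by decide +kernel

theorem rel25 : T.rel 4 [5, 3, 5, 3] 0 4 = true := by decide +kernel

theorem rel26 : T.rel 4 [6, 3, 6, 3] 0 4 = true := by decide +kernel

theorem rel27 : T.rel 4 [7, 3, 7, 3] 0 4 = true := by decide +kernel

theorem rel28 : T.rel 4 [8, 3, 8, 3] 0 4 = true := by decide +kernel

theorem rel29 : T.rel 4 [9, 3, 9, 3] 0 4 = true := by decide +kernel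

theorem rel30 : T.rel 4 [5, 4, 5, 4] 0 4 = true := by decide +kernel

theorem rel31 : T.rel 4 [6, 4, 6, 4] 0 4 = true := by decide +kernel

theorem rel32 : T.rel 4 [7, 4, 7, 4] 0 4 = true := by decide +kernel

theorem rel33 : T.rel 4 [8, 4, 8, 4] 0 4 = true := by decide +kernel

theorem rel34 : T.rel 4 [9, 4, 9, 4] 0 4 = true := by decide +kernel

theorem rel35 : T.rel 4 [6, 5, 6, 5] 0 4 = true := by decide +kernel

theorem rel36 : T.rel 4 [7, 5, 7, 5] 0 4 = true := by decide +kernel

theorem rel37 : T.rel 4 [8, 5, 8, 5] 0 4 = true := by decide +kernel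

theorem rel38 : T.rel 4 [9, 5, 9, 5] 0 4 = true := by decide +kernel

theorem rel39 : T.rel 4 [7, 6, 7, 6] 0 4 = true := by decide +kernel

theorem rel40 : T.rel 4 [8, 6, 8, 6] 0 4 = true := by decide +kernel

theorem rel41 : T.rel 4 [9, 6, 9, 6] 0 4 = true := by decide +kernel

theorem rel42 : T.rel 4 [8, 7, 8, 7] 0 4 = true := by decide +kernel

theorem rel43 : T.rel 4 [9, 7, 9, 7] 0 4 = true := by decide +kernel

theorem rel44 : T.rel 4 [9, 8, 9, 8] 0 4 = true := by decide +kernel

theorem hcov : T.treeCov (ones 11) L 1 = true := by decide +kernel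

theorem hg : lall (fun z => band (memL L z) (band (sub (ones 11) (T.let z).cl) (T.closed (ones 11) z))) gs = true := by decide +kernel

theorem rot1_1 : T.rot 1 [10] (sel (ones 11) ip1 1) = true := by decide +kernel

theorem rot1_1r : band (Rule.ok (2 * 0) EX RL ⟨1 :: [10], [], 45, false⟩) (lall (memL L) [10]) = true := by decide +kernel

theorem rot1_2 : T.rot 1 [1, 1] (sel (ones 11) ip1 2) = true := by decide +kernel

theorem rot1_2r : band (Rule.ok (2 * 0) EX RL ⟨1 :: [1, 1], [], 0, true⟩) (lall (memL L) [1, 1]) = true := by decide +kernel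

theorem rot1_3 : T.rot 1 [2, 1, 2] (sel (ones 11) ip1 3) = true := by decide +kernel

theorem rot1_3r : band (Rule.ok (2 * 0) EX RL ⟨1 :: [2, 1, 2], [0], 9, true⟩) (lall (memL L) [2, 1, 2]) = true := by decide +kernel

theorem rot1_4 : T.rot 1 [3, 1, 3] (sel (ones 11) ip1 4) = true := by decide +kernel

theorem rot1_4r : band (Rule.ok (2 * 0) EX RL ⟨1 :: [3, 1, 3], [0], 10, true⟩) (lall (memL L) [3, 1, 3]) = true := by decide +kernel

theorem rot1_5 : T.rot 1 [4, 1, 4] (sel (ones 11) ip1 5) = true := by decide +kernel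

theorem rot1_5r : band (Rule.ok (2 * 0) EX RL ⟨1 :: [4, 1, 4], [0], 11, true⟩) (lall (memL L) [4, 1, 4]) = true := by decide +kernel

theorem rot1_6 : T.rot 1 [5, 1, 5] (sel (ones 11) ip1 6) = true := by decide +kernel

theorem rot1_6r : band (Rule.ok (2 * 0) EX RL ⟨1 :: [5, 1, 5], [0], 12, true⟩) (lall (memL L) [5, 1, 5]) = true := by decide +kernel

theorem rot1_7 : T.rot 1 [6, 1, 6] (sel (ones 11) ip1 7) = true := by decide +kernel

theorem rot1_7r : band (Rule.ok (2 * 0) EX RL ⟨1 :: [6, 1, 6], [0], 13, true⟩) (lall (memL L) [6, 1, 6]) = true := by decide +kernel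

theorem rot1_8 : T.rot 1 [7, 1, 7] (sel (ones 11) ip1 8) = true := by decide +kernel

theorem rot1_8r : band (Rule.ok (2 * 0) EX RL ⟨1 :: [7, 1, 7], [0], 14, true⟩) (lall (memL L) [7, 1, 7]) = true := by decide +kernel

theorem rot1_9 : T.rot 1 [8, 1, 8] (sel (ones 11) ip1 9) = true := by decide +kernel

theorem rot1_9r : band (Rule.ok (2 * 0) EX RL ⟨1 :: [8, 1, 8], [0], 15, true⟩) (lall (memL L) [8, 1, 8]) = true := by decide +kernel

theorem rot1_10 : T.rot 1 [9, 1, 9] (sel (ones 11) ip1 10) = true := by decide +kernel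

theorem rot1_10r : band (Rule.ok (2 * 0) EX RL ⟨1 :: [9, 1, 9], [0], 16, true⟩) (lall (memL L) [9, 1, 9]) = true := by decide +kernel

theorem cov1 : T.cover 1 [(sel (ones 11) ip1 1), (sel (ones 11) ip1 2), (sel (ones 11) ip1 3), (sel (ones 11) ip1 4), (sel (ones 11) ip1 5), (sel (ones 11) ip1 6), (sel (ones 11) ip1 7), (sel (ones 11) ip1 8), (sel (ones 11) ip1 9), (sel (ones 11) ip1 10), 1] = true := by decide +kernel

theorem tl1 : Nat.beq (T.let 1).tt 0 = true := by decide +kernel

theorem rot2_1 : T.rot 2 [11] (sel (ones 11) ip2 1) = true := by decide +kernel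

theorem rot2_1r : band (Rule.ok (2 * 0) EX RL ⟨2 :: [11], [], 45, false⟩) (lall (memL L) [11]) = true := by decide +kernel

theorem rot2_2 : T.rot 2 [2, 2] (sel (ones 11) ip2 2) = true := by decide +kernel

theorem rot2_2r : band (Rule.ok (2 * 0) EX RL ⟨2 :: [2, 2], [], 1, true⟩) (lall (memL L) [2, 2]) = true := by decide +kernel

theorem rot2_3 : T.rot 2 [1, 2, 1] (sel (ones 11) ip2 3) = true := by decide +kernel

theorem rot2_3r : band (Rule.ok (2 * 0) EX RL ⟨2 :: [1, 2, 1], [], 9, true⟩) (lall (memL L) [1, 2, 1]) = true := by decide +kernel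

theorem rot2_4 : T.rot 2 [3, 2, 3] (sel (ones 11) ip2 4) = true := by decide +kernel

theorem rot2_4r : band (Rule.ok (2 * 0) EX RL ⟨2 :: [3, 2, 3], [2], 17, true⟩) (lall (memL L) [3, 2, 3]) = true := by decide +kernel

theorem rot2_5 : T.rot 2 [4, 2, 4] (sel (ones 11) ip2 5) = true := by decide +kernel

theorem rot2_5r : band (Rule.ok (2 * 0) EX RL ⟨2 :: [4, 2, 4], [2], 18, true⟩) (lall (memL L) [4, 2, 4]) = true := by decide +kernel

theorem rot2_6 : T.rot 2 [5, 2, 5] (sel (ones 11) ip2 6) = true := by decide +kernel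

theorem rot2_6r : band (Rule.ok (2 * 0) EX RL ⟨2 :: [5, 2, 5], [2], 19, true⟩) (lall (memL L) [5, 2, 5]) = true := by decide +kernel

theorem rot2_7 : T.rot 2 [6, 2, 6] (sel (ones 11) ip2 7) = true := by decide +kernel

theorem rot2_7r : band (Rule.ok (2 * 0) EX RL ⟨2 :: [6, 2, 6], [2], 20, true⟩) (lall (memL L) [6, 2, 6]) = true := by decide +kernel

theorem rot2_8 : T.rot 2 [7, 2, 7] (sel (ones 11) ip2 8) = true := by decide +kernel

theorem rot2_8r : band (Rule.ok (2 * 0) EX RL ⟨2 :: [7, 2, 7], [2], 21, true⟩) (lall (memL L) [7, 2, 7]) = true := by decide +kernel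

theorem rot2_9 : T.rot 2 [8, 2, 8] (sel (ones 11) ip2 9) = true := by decide +kernel

theorem rot2_9r : band (Rule.ok (2 * 0) EX RL ⟨2 :: [8, 2, 8], [2], 22, true⟩) (lall (memL L) [8, 2, 8]) = true := by decide +kernel

theorem rot2_10 : T.rot 2 [9, 2, 9] (sel (ones 11) ip2 10) = true := by decide +kernel

theorem rot2_10r : band (Rule.ok (2 * 0) EX RL ⟨2 :: [9, 2, 9], [2], 23, true⟩) (lall (memL L) [9, 2, 9]) = true := by decide +kernel

theorem cov2 : T.cover 2 [(sel (ones 11) ip2 1), (sel (ones 11) ip2 2), (sel (ones 11) ip2 3), (sel (ones 11) ip2 4), (sel (ones 11) ip2 5), (sel (ones 11) ip2 6), (sel (ones 11) ip2 7), (sel (ones 11) ip2 8), (sel (ones 11) ip2 9), (sel (ones 11) ip2 10), 1] = true := by decide +kernel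

theorem tl2 : Nat.beq (T.let 2).tt 0 = true := by decide +kernel

theorem rot3_1 : T.rot 3 [12] (sel (ones 11) ip3 1) = true := by decide +kernel

theorem rot3_1r : band (Rule.ok (2 * 0) EX RL ⟨3 :: [12], [], 45, false⟩) (lall (memL L) [12]) = true := by decide +kernel

theorem rot3_2 : T.rot 3 [3, 3] (sel (ones 11) ip3 2) = true := by decide +kernel

theorem rot3_2r : band (Rule.ok (2 * 0) EX RL ⟨3 :: [3, 3], [], 2, true⟩) (lall (memL L) [3, 3]) = true := by decide +kernel

theorem rot3_3 : T.rot 3 [1, 3, 1] (sel (ones 11) ip3 3) = true := by decide +kernel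

theorem rot3_3r : band (Rule.ok (2 * 0) EX RL ⟨3 :: [1, 3, 1], [], 10, true⟩) (lall (memL L) [1, 3, 1]) = true := by decide +kernel

theorem rot3_4 : T.rot 3 [2, 3, 2] (sel (ones 11) ip3 4) = true := by decide +kernel

theorem rot3_4r : band (Rule.ok (2 * 0) EX RL ⟨3 :: [2, 3, 2], [], 17, true⟩) (lall (memL L) [2, 3, 2]) = true := by decide +kernel

theorem rot3_5 : T.rot 3 [4, 3, 4] (sel (ones 11) ip3 5) = true := by decide +kernel

theorem rot3_5r : band (Rule.ok (2 * 0) EX RL ⟨3 :: [4, 3, 4], [4], 24, true⟩) (lall (memL L) [4, 3, 4]) = true := by decide +kernel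

theorem rot3_6 : T.rot 3 [5, 3, 5] (sel (ones 11) ip3 6) = true := by decide +kernel

theorem rot3_6r : band (Rule.ok (2 * 0) EX RL ⟨3 :: [5, 3, 5], [4], 25, true⟩) (lall (memL L) [5, 3, 5]) = true := by decide +kernel

theorem rot3_7 : T.rot 3 [6, 3, 6] (sel (ones 11) ip3 7) = true := by decide +kernel

theorem rot3_7r : band (Rule.ok (2 * 0) EX RL ⟨3 :: [6, 3, 6], [4], 26, true⟩) (lall (memL L) [6, 3, 6]) = true := by decide +kernel

theorem rot3_8 : T.rot 3 [7, 3, 7] (sel (ones 11) ip3 8) = true := by decide +kernel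

theorem rot3_8r : band (Rule.ok (2 * 0) EX RL ⟨3 :: [7, 3, 7], [4], 27, true⟩) (lall (memL L) [7, 3, 7]) = true := by decide +kernel

theorem rot3_9 : T.rot 3 [8, 3, 8] (sel (ones 11) ip3 9) = true := by decide +kernel

theorem rot3_9r : band (Rule.ok (2 * 0) EX RL ⟨3 :: [8, 3, 8], [4], 28, true⟩) (lall (memL L) [8, 3, 8]) = true := by decide +kernel

theorem rot3_10 : T.rot 3 [9, 3, 9] (sel (ones 11) ip3 10) = true := by decide +kernel

theorem rot3_10r : band (Rule.ok (2 * 0) EX RL ⟨3 :: [9, 3, 9], [4], 29, true⟩) (lall (memL L) [9, 3, 9]) = true := by decide +kernel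

theorem cov3 : T.cover 3 [(sel (ones 11) ip3 1), (sel (ones 11) ip3 2), (sel (ones 11) ip3 3), (sel (ones 11) ip3 4), (sel (ones 11) ip3 5), (sel (ones 11) ip3 6), (sel (ones 11) ip3 7), (sel (ones 11) ip3 8), (sel (ones 11) ip3 9), (sel (ones 11) ip3 10), 1] = true := by decide +kernel

theorem tl3 : Nat.beq (T.let 3).tt 0 = true := by decide +kernel

theorem rot4_1 : T.rot 4 [13] (sel (ones 11) ip4 1) = true := by decide +kernel

theorem rot4_1r : band (Rule.ok (2 * 0) EX RL ⟨4 :: [13], [], 45, false⟩) (lall (memL L) [13]) = true := by decide +kernel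

theorem rot4_2 : T.rot 4 [4, 4] (sel (ones 11) ip4 2) = true := by decide +kernel

theorem rot4_2r : band (Rule.ok (2 * 0) EX RL ⟨4 :: [4, 4], [], 3, true⟩) (lall (memL L) [4, 4]) = true := by decide +kernel

theorem rot4_3 : T.rot 4 [1, 4, 1] (sel (ones 11) ip4 3) = true := by decide +kernel

theorem rot4_3r : band (Rule.ok (2 * 0) EX RL ⟨4 :: [1, 4, 1], [], 11, true⟩) (lall (memL L) [1, 4, 1]) = true := by decide +kernel

theorem rot4_4 : T.rot 4 [2, 4, 2] (sel (ones 11) ip4 4) = true := by decide +kernel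

theorem rot4_4r : band (Rule.ok (2 * 0) EX RL ⟨4 :: [2, 4, 2], [], 18, true⟩) (lall (memL L) [2, 4, 2]) = true := by decide +kernel

theorem rot4_5 : T.rot 4 [3, 4, 3] (sel (ones 11) ip4 5) = true := by decide +kernel

theorem rot4_5r : band (Rule.ok (2 * 0) EX RL ⟨4 :: [3, 4, 3], [], 24, true⟩) (lall (memL L) [3, 4, 3]) = true := by decide +kernel

theorem rot4_6 : T.rot 4 [5, 4, 5] (sel (ones 11) ip4 6) = true := by decide +kernel

theorem rot4_6r : band (Rule.ok (2 * 0) EX RL ⟨4 :: [5, 4, 5], [6], 30, true⟩) (lall (memL L) [5, 4, 5]) = true := by decide +kernel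

theorem rot4_7 : T.rot 4 [6, 4, 6] (sel (ones 11) ip4 7) = true := by decide +kernel

theorem rot4_7r : band (Rule.ok (2 * 0) EX RL ⟨4 :: [6, 4, 6], [6], 31, true⟩) (lall (memL L) [6, 4, 6]) = true := by decide +kernel

theorem rot4_8 : T.rot 4 [7, 4, 7] (sel (ones 11) ip4 8) = true := by decide +kernel

theorem rot4_8r : band (Rule.ok (2 * 0) EX RL ⟨4 :: [7, 4, 7], [6], 32, true⟩) (lall (memL L) [7, 4, 7]) = true := by decide +kernel

theorem rot4_9 : T.rot 4 [8, 4, 8] (sel (ones 11) ip4 9) = true := by decide +kernel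

theorem rot4_9r : band (Rule.ok (2 * 0) EX RL ⟨4 :: [8, 4, 8], [6], 33, true⟩) (lall (memL L) [8, 4, 8]) = true := by decide +kernel

theorem rot4_10 : T.rot 4 [9, 4, 9] (sel (ones 11) ip4 10) = true := by decide +kernel

theorem rot4_10r : band (Rule.ok (2 * 0) EX RL ⟨4 :: [9, 4, 9], [6], 34, true⟩) (lall (memL L) [9, 4, 9]) = true := by decide +kernel

theorem cov4 : T.cover 4 [(sel (ones 11) ip4 1), (sel (ones 11) ip4 2), (sel (ones 11) ip4 3), (sel (ones 11) ip4 4), (sel (ones 11) ip4 5), (sel (ones 11) ip4 6), (sel (ones 11) ip4 7), (sel (ones 11) ip4 8), (sel (ones 11) ip4 9), (sel (ones 11) ip4 10), 1] = true := by decide +kernel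

theorem tl4 : Nat.beq (T.let 4).tt 0 = true := by decide +kernel

theorem rot5_1 : T.rot 5 [14] (sel (ones 11) ip5 1) = true := by decide +kernel

theorem rot5_1r : band (Rule.ok (2 * 0) EX RL ⟨5 :: [14], [], 45, false⟩) (lall (memL L) [14]) = true := by decide +kernel

theorem rot5_2 : T.rot 5 [5, 5] (sel (ones 11) ip5 2) = true := by decide +kernel

theorem rot5_2r : band (Rule.ok (2 * 0) EX RL ⟨5 :: [5, 5], [], 4, true⟩) (lall (memL L) [5, 5]) = true := by decide +kernel

theorem rot5_3 : T.rot 5 [1, 5, 1] (sel (ones 11) ip5 3) = true := by decide +kernel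

theorem rot5_3r : band (Rule.ok (2 * 0) EX RL ⟨5 :: [1, 5, 1], [], 12, true⟩) (lall (memL L) [1, 5, 1]) = true := by decide +kernel

theorem rot5_4 : T.rot 5 [2, 5, 2] (sel (ones 11) ip5 4) = true := by decide +kernel

theorem rot5_4r : band (Rule.ok (2 * 0) EX RL ⟨5 :: [2, 5, 2], [], 19, true⟩) (lall (memL L) [2, 5, 2]) = true := by decide +kernel

theorem rot5_5 : T.rot 5 [3, 5, 3] (sel (ones 11) ip5 5) = true := by decide +kernel

theorem rot5_5r : band (Rule.ok (2 * 0) EX RL ⟨5 :: [3, 5, 3], [], 25, true⟩) (lall (memL L) [3, 5, 3]) = true := by decide +kernel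

theorem rot5_6 : T.rot 5 [4, 5, 4] (sel (ones 11) ip5 6) = true := by decide +kernel

theorem rot5_6r : band (Rule.ok (2 * 0) EX RL ⟨5 :: [4, 5, 4], [], 30, true⟩) (lall (memL L) [4, 5, 4]) = true := by decide +kernel

theorem rot5_7 : T.rot 5 [6, 5, 6] (sel (ones 11) ip5 7) = true := by decide +kernel

theorem rot5_7r : band (Rule.ok (2 * 0) EX RL ⟨5 :: [6, 5, 6], [8], 35, true⟩) (lall (memL L) [6, 5, 6]) = true := by decide +kernel

theorem rot5_8 : T.rot 5 [7, 5, 7] (sel (ones 11) ip5 8) = true := by decide +kernel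

theorem rot5_8r : band (Rule.ok (2 * 0) EX RL ⟨5 :: [7, 5, 7], [8], 36, true⟩) (lall (memL L) [7, 5, 7]) = true := by decide +kernel

theorem rot5_9 : T.rot 5 [8, 5, 8] (sel (ones 11) ip5 9) = true := by decide +kernel

theorem rot5_9r : band (Rule.ok (2 * 0) EX RL ⟨5 :: [8, 5, 8], [8], 37, true⟩) (lall (memL L) [8, 5, 8]) = true := by decide +kernel

theorem rot5_10 : T.rot 5 [9, 5, 9] (sel (ones 11) ip5 10) = true := by decide +kernel

theorem rot5_10r : band (Rule.ok (2 * 0) EX RL ⟨5 :: [9, 5, 9], [8], 38, true⟩) (lall (memL L) [9, 5, 9]) = true := by decide +kernel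

theorem cov5 : T.cover 5 [(sel (ones 11) ip5 1), (sel (ones 11) ip5 2), (sel (ones 11) ip5 3), (sel (ones 11) ip5 4), (sel (ones 11) ip5 5), (sel (ones 11) ip5 6), (sel (ones 11) ip5 7), (sel (ones 11) ip5 8), (sel (ones 11) ip5 9), (sel (ones 11) ip5 10), 1] = true := by decide +kernel

theorem tl5 : Nat.beq (T.let 5).tt 0 = true := by decide +kernel

theorem rot6_1 : T.rot 6 [15] (sel (ones 11) ip6 1) = true := by decide +kernel

theorem rot6_1r : band (Rule.ok (2 * 0) EX RL ⟨6 :: [15], [], 45, false⟩) (lall (memL L) [15]) = true := by decide +kernel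

theorem rot6_2 : T.rot 6 [6, 6] (sel (ones 11) ip6 2) = true := by decide +kernel

theorem rot6_2r : band (Rule.ok (2 * 0) EX RL ⟨6 :: [6, 6], [], 5, true⟩) (lall (memL L) [6, 6]) = true := by decide +kernel

theorem rot6_3 : T.rot 6 [1, 6, 1] (sel (ones 11) ip6 3) = true := by decide +kernel

theorem rot6_3r : band (Rule.ok (2 * 0) EX RL ⟨6 :: [1, 6, 1], [], 13, true⟩) (lall (memL L) [1, 6, 1]) = true := by decide +kernel

theorem rot6_4 : T.rot 6 [2, 6, 2] (sel (ones 11) ip6 4) = true := by decide +kernel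

theorem rot6_4r : band (Rule.ok (2 * 0) EX RL ⟨6 :: [2, 6, 2], [], 20, true⟩) (lall (memL L) [2, 6, 2]) = true := by decide +kernel

theorem rot6_5 : T.rot 6 [3, 6, 3] (sel (ones 11) ip6 5) = true := by decide +kernel

theorem rot6_5r : band (Rule.ok (2 * 0) EX RL ⟨6 :: [3, 6, 3], [], 26, true⟩) (lall (memL L) [3, 6, 3]) = true := by decide +kernel

theorem rot6_6 : T.rot 6 [4, 6, 4] (sel (ones 11) ip6 6) = true := by decide +kernel

theorem rot6_6r : band (Rule.ok (2 * 0) EX RL ⟨6 :: [4, 6, 4], [], 31, true⟩) (lall (memL L) [4, 6, 4]) = true := by decide +kernel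

theorem rot6_7 : T.rot 6 [5, 6, 5] (sel (ones 11) ip6 7) = true := by decide +kernel

theorem rot6_7r : band (Rule.ok (2 * 0) EX RL ⟨6 :: [5, 6, 5], [], 35, true⟩) (lall (memL L) [5, 6, 5]) = true := by decide +kernel

theorem rot6_8 : T.rot 6 [7, 6, 7] (sel (ones 11) ip6 8) = true := by decide +kernel

theorem rot6_8r : band (Rule.ok (2 * 0) EX RL ⟨6 :: [7, 6, 7], [10], 39, true⟩) (lall (memL L) [7, 6, 7]) = true := by decide +kernel

theorem rot6_9 : T.rot 6 [8, 6, 8] (sel (ones 11) ip6 9) = true := by decide +kernel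

theorem rot6_9r : band (Rule.ok (2 * 0) EX RL ⟨6 :: [8, 6, 8], [10], 40, true⟩) (lall (memL L) [8, 6, 8]) = true := by decide +kernel

theorem rot6_10 : T.rot 6 [9, 6, 9] (sel (ones 11) ip6 10) = true := by decide +kernel

theorem rot6_10r : band (Rule.ok (2 * 0) EX RL ⟨6 :: [9, 6, 9], [10], 41, true⟩) (lall (memL L) [9, 6, 9]) = true := by decide +kernel

theorem cov6 : T.cover 6 [(sel (ones 11) ip6 1), (sel (ones 11) ip6 2), (sel (ones 11) ip6 3), (sel (ones 11) ip6 4), (sel (ones 11) ip6 5), (sel (ones 11) ip6 6), (sel (ones 11) ip6 7), (sel (ones 11) ip6 8), (sel (ones 11) ip6 9), (sel (ones 11) ip6 10), 1] = true := by decide +kernel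

theorem tl6 : Nat.beq (T.let 6).tt 0 = true := by decide +kernel

theorem rot7_1 : T.rot 7 [16] (sel (ones 11) ip7 1) = true := by decide +kernel

theorem rot7_1r : band (Rule.ok (2 * 0) EX RL ⟨7 :: [16], [], 45, false⟩) (lall (memL L) [16]) = true := by decide +kernel

theorem rot7_2 : T.rot 7 [7, 7] (sel (ones 11) ip7 2) = true := by decide +kernel

theorem rot7_2r : band (Rule.ok (2 * 0) EX RL ⟨7 :: [7, 7], [], 6, true⟩) (lall (memL L) [7, 7]) = true := by decide +kernel

theorem rot7_3 : T.rot 7 [1, 7, 1] (sel (ones 11) ip7 3) = true := by decide +kernel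

theorem rot7_3r : band (Rule.ok (2 * 0) EX RL ⟨7 :: [1, 7, 1], [], 14, true⟩) (lall (memL L) [1, 7, 1]) = true := by decide +kernel

theorem rot7_4 : T.rot 7 [2, 7, 2] (sel (ones 11) ip7 4) = true := by decide +kernel

theorem rot7_4r : band (Rule.ok (2 * 0) EX RL ⟨7 :: [2, 7, 2], [], 21, true⟩) (lall (memL L) [2, 7, 2]) = true := by decide +kernel

theorem rot7_5 : T.rot 7 [3, 7, 3] (sel (ones 11) ip7 5) = true := by decide +kernel

theorem rot7_5r : band (Rule.ok (2 * 0) EX RL ⟨7 :: [3, 7, 3], [], 27, true⟩) (lall (memL L) [3, 7, 3]) = true := by decide +kernel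

theorem rot7_6 : T.rot 7 [4, 7, 4] (sel (ones 11) ip7 6) = true := by decide +kernel

theorem rot7_6r : band (Rule.ok (2 * 0) EX RL ⟨7 :: [4, 7, 4], [], 32, true⟩) (lall (memL L) [4, 7, 4]) = true := by decide +kernel

theorem rot7_7 : T.rot 7 [5, 7, 5] (sel (ones 11) ip7 7) = true := by decide +kernel

theorem rot7_7r : band (Rule.ok (2 * 0) EX RL ⟨7 :: [5, 7, 5], [], 36, true⟩) (lall (memL L) [5, 7, 5]) = true := by decide +kernel

theorem rot7_8 : T.rot 7 [6, 7, 6] (sel (ones 11) ip7 8) = true := by decide +kernel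

theorem rot7_8r : band (Rule.ok (2 * 0) EX RL ⟨7 :: [6, 7, 6], [], 39, true⟩) (lall (memL L) [6, 7, 6]) = true := by decide +kernel

theorem rot7_9 : T.rot 7 [8, 7, 8] (sel (ones 11) ip7 9) = true := by decide +kernel

theorem rot7_9r : band (Rule.ok (2 * 0) EX RL ⟨7 :: [8, 7, 8], [12], 42, true⟩) (lall (memL L) [8, 7, 8]) = true := by decide +kernel

theorem rot7_10 : T.rot 7 [9, 7, 9] (sel (ones 11) ip7 10) = true := by decide +kernel

theorem rot7_10r : band (Rule.ok (2 * 0) EX RL ⟨7 :: [9, 7, 9], [12], 43, true⟩) (lall (memL L) [9, 7, 9]) = true := by decide +kernel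

theorem cov7 : T.cover 7 [(sel (ones 11) ip7 1), (sel (ones 11) ip7 2), (sel (ones 11) ip7 3), (sel (ones 11) ip7 4), (sel (ones 11) ip7 5), (sel (ones 11) ip7 6), (sel (ones 11) ip7 7), (sel (ones 11) ip7 8), (sel (ones 11) ip7 9), (sel (ones 11) ip7 10), 1] = true := by decide +kernel

theorem tl7 : Nat.beq (T.let 7).tt 0 = true := by decide +kernel

theorem rot8_1 : T.rot 8 [17] (sel (ones 11) ip8 1) = true := by decide +kernel

theorem rot8_1r : band (Rule.ok (2 * 0) EX RL ⟨8 :: [17], [], 45, false⟩) (lall (memL L) [17]) = true := by decide +kernel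

theorem rot8_2 : T.rot 8 [8, 8] (sel (ones 11) ip8 2) = true := by decide +kernel

theorem rot8_2r : band (Rule.ok (2 * 0) EX RL ⟨8 :: [8, 8], [], 7, true⟩) (lall (memL L) [8, 8]) = true := by decide +kernel

theorem rot8_3 : T.rot 8 [1, 8, 1] (sel (ones 11) ip8 3) = true := by decide +kernel

theorem rot8_3r : band (Rule.ok (2 * 0) EX RL ⟨8 :: [1, 8, 1], [], 15, true⟩) (lall (memL L) [1, 8, 1]) = true := by decide +kernel

theorem rot8_4 : T.rot 8 [2, 8, 2] (sel (ones 11) ip8 4) = true := by decide +kernel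

theorem rot8_4r : band (Rule.ok (2 * 0) EX RL ⟨8 :: [2, 8, 2], [], 22, true⟩) (lall (memL L) [2, 8, 2]) = true := by decide +kernel

theorem rot8_5 : T.rot 8 [3, 8, 3] (sel (ones 11) ip8 5) = true := by decide +kernel

theorem rot8_5r : band (Rule.ok (2 * 0) EX RL ⟨8 :: [3, 8, 3], [], 28, true⟩) (lall (memL L) [3, 8, 3]) = true := by decide +kernel

theorem rot8_6 : T.rot 8 [4, 8, 4] (sel (ones 11) ip8 6) = true := by decide +kernel

theorem rot8_6r : band (Rule.ok (2 * 0) EX RL ⟨8 :: [4, 8, 4], [], 33, true⟩) (lall (memL L) [4, 8, 4]) = true := by decide +kernel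

theorem rot8_7 : T.rot 8 [5, 8, 5] (sel (ones 11) ip8 7) = true := by decide +kernel

theorem rot8_7r : band (Rule.ok (2 * 0) EX RL ⟨8 :: [5, 8, 5], [], 37, true⟩) (lall (memL L) [5, 8, 5]) = true := by decide +kernel

theorem rot8_8 : T.rot 8 [6, 8, 6] (sel (ones 11) ip8 8) = true := by decide +kernel

theorem rot8_8r : band (Rule.ok (2 * 0) EX RL ⟨8 :: [6, 8, 6], [], 40, true⟩) (lall (memL L) [6, 8, 6]) = true := by decide +kernel

theorem rot8_9 : T.rot 8 [7, 8, 7] (sel (ones 11) ip8 9) = true := by decide +kernel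

theorem rot8_9r : band (Rule.ok (2 * 0) EX RL ⟨8 :: [7, 8, 7], [], 42, true⟩) (lall (memL L) [7, 8, 7]) = true := by decide +kernel

theorem rot8_10 : T.rot 8 [9, 8, 9] (sel (ones 11) ip8 10) = true := by decide +kernel

theorem rot8_10r : band (Rule.ok (2 * 0) EX RL ⟨8 :: [9, 8, 9], [14], 44, true⟩) (lall (memL L) [9, 8, 9]) = true := by decide +kernel

theorem cov8 : T.cover 8 [(sel (ones 11) ip8 1), (sel (ones 11) ip8 2), (sel (ones 11) ip8 3), (sel (ones 11) ip8 4), (sel (ones 11) ip8 5), (sel (ones 11) ip8 6), (sel (ones 11) ip8 7), (sel (ones 11) ip8 8), (sel (ones 11) ip8 9), (sel (ones 11) ip8 10), 1] = true := by decide +kernel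

theorem tl8 : Nat.beq (T.let 8).tt 0 = true := by decide +kernel

theorem rot9_1 : T.rot 9 [18] (sel (ones 11) ip9 1) = true := by decide +kernel

theorem rot9_1r : band (Rule.ok (2 * 0) EX RL ⟨9 :: [18], [], 45, false⟩) (lall (memL L) [18]) = true := by decide +kernel

theorem rot9_2 : T.rot 9 [9, 9] (sel (ones 11) ip9 2) = true := by decide +kernel

theorem rot9_2r : band (Rule.ok (2 * 0) EX RL ⟨9 :: [9, 9], [], 8, true⟩) (lall (memL L) [9, 9]) = true := by decide +kernel

theorem rot9_3 : T.rot 9 [1, 9, 1] (sel (ones 11) ip9 3) = true := by decide +kernel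

theorem rot9_3r : band (Rule.ok (2 * 0) EX RL ⟨9 :: [1, 9, 1], [], 16, true⟩) (lall (memL L) [1, 9, 1]) = true := by decide +kernel

theorem rot9_4 : T.rot 9 [2, 9, 2] (sel (ones 11) ip9 4) = true := by decide +kernel

theorem rot9_4r : band (Rule.ok (2 * 0) EX RL ⟨9 :: [2, 9, 2], [], 23, true⟩) (lall (memL L) [2, 9, 2]) = true := by decide +kernel

theorem rot9_5 : T.rot 9 [3, 9, 3] (sel (ones 11) ip9 5) = true := by decide +kernel

theorem rot9_5r : band (Rule.ok (2 * 0) EX RL ⟨9 :: [3, 9, 3], [], 29, true⟩) (lall (memL L) [3, 9, 3]) = true := by decide +kernel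

theorem rot9_6 : T.rot 9 [4, 9, 4] (sel (ones 11) ip9 6) = true := by decide +kernel

theorem rot9_6r : band (Rule.ok (2 * 0) EX RL ⟨9 :: [4, 9, 4], [], 34, true⟩) (lall (memL L) [4, 9, 4]) = true := by decide +kernel

theorem rot9_7 : T.rot 9 [5, 9, 5] (sel (ones 11) ip9 7) = true := by decide +kernel

theorem rot9_7r : band (Rule.ok (2 * 0) EX RL ⟨9 :: [5, 9, 5], [], 38, true⟩) (lall (memL L) [5, 9, 5]) = true := by decide +kernel

theorem rot9_8 : T.rot 9 [6, 9, 6] (sel (ones 11) ip9 8) = true := by decide +kernel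

theorem rot9_8r : band (Rule.ok (2 * 0) EX RL ⟨9 :: [6, 9, 6], [], 41, true⟩) (lall (memL L) [6, 9, 6]) = true := by decide +kernel

theorem rot9_9 : T.rot 9 [7, 9, 7] (sel (ones 11) ip9 9) = true := by decide +kernel

theorem rot9_9r : band (Rule.ok (2 * 0) EX RL ⟨9 :: [7, 9, 7], [], 43, true⟩) (lall (memL L) [7, 9, 7]) = true := by decide +kernel

theorem rot9_10 : T.rot 9 [8, 9, 8] (sel (ones 11) ip9 10) = true := by decide +kernel

theorem rot9_10r : band (Rule.ok (2 * 0) EX RL ⟨9 :: [8, 9, 8], [], 44, true⟩) (lall (memL L) [8, 9, 8]) = true := by decide +kernel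

theorem cov9 : T.cover 9 [(sel (ones 11) ip9 1), (sel (ones 11) ip9 2), (sel (ones 11) ip9 3), (sel (ones 11) ip9 4), (sel (ones 11) ip9 5), (sel (ones 11) ip9 6), (sel (ones 11) ip9 7), (sel (ones 11) ip9 8), (sel (ones 11) ip9 9), (sel (ones 11) ip9 10)] = true := by decide +kernel

theorem tl9 : T.treeLt 4 9 = true := by decide +kernel

theorem rot10_1 : T.rot 10 [1] (sel (ones 11) ip10 1) = true := by decide +kernel

theorem rot10_1r : band (Rule.ok (2 * 0) EX RL ⟨10 :: [1], [], 45, false⟩) (lall (memL L) [1]) = true := by decide +kernel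

theorem rot10_2 : T.rot 10 [10, 10] (sel (ones 11) ip10 2) = true := by decide +kernel

theorem rot10_2r : band (Rule.ok (2 * 0) EX RL ⟨10 :: [10, 10], [], 0, false⟩) (lall (memL L) [10, 10]) = true := by decide +kernel

theorem rot10_3 : T.rot 10 [11, 10, 11] (sel (ones 11) ip10 3) = true := by decide +kernel

theorem rot10_3r : band (Rule.ok (2 * 0) EX RL ⟨10 :: [11, 10, 11], [], 9, false⟩) (lall (memL L) [11, 10, 11]) = true := by decide +kernel

theorem rot10_4 : T.rot 10 [12, 10, 12] (sel (ones 11) ip10 4) = true := by decide +kernel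

theorem rot10_4r : band (Rule.ok (2 * 0) EX RL ⟨10 :: [12, 10, 12], [], 10, false⟩) (lall (memL L) [12, 10, 12]) = true := by decide +kernel

theorem rot10_5 : T.rot 10 [13, 10, 13] (sel (ones 11) ip10 5) = true := by decide +kernel

theorem rot10_5r : band (Rule.ok (2 * 0) EX RL ⟨10 :: [13, 10, 13], [], 11, false⟩) (lall (memL L) [13, 10, 13]) = true := by decide +kernel

theorem rot10_6 : T.rot 10 [14, 10, 14] (sel (ones 11) ip10 6) = true := by decide +kernel

theorem rot10_6r : band (Rule.ok (2 * 0) EX RL ⟨10 :: [14, 10, 14], [], 12, false⟩) (lall (memL L) [14, 10, 14]) = true := by decide +kernel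

theorem rot10_7 : T.rot 10 [15, 10, 15] (sel (ones 11) ip10 7) = true := by decide +kernel

theorem rot10_7r : band (Rule.ok (2 * 0) EX RL ⟨10 :: [15, 10, 15], [], 13, false⟩) (lall (memL L) [15, 10, 15]) = true := by decide +kernel

theorem rot10_8 : T.rot 10 [16, 10, 16] (sel (ones 11) ip10 8) = true := by decide +kernel

theorem rot10_8r : band (Rule.ok (2 * 0) EX RL ⟨10 :: [16, 10, 16], [], 14, false⟩) (lall (memL L) [16, 10, 16]) = true := by decide +kernel

theorem rot10_9 : T.rot 10 [17, 10, 17] (sel (ones 11) ip10 9) = true := by decide +kernel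

theorem rot10_9r : band (Rule.ok (2 * 0) EX RL ⟨10 :: [17, 10, 17], [], 15, false⟩) (lall (memL L) [17, 10, 17]) = true := by decide +kernel

theorem rot10_10 : T.rot 10 [18, 10, 18] (sel (ones 11) ip10 10) = true := by decide +kernel

theorem rot10_10r : band (Rule.ok (2 * 0) EX RL ⟨10 :: [18, 10, 18], [], 16, false⟩) (lall (memL L) [18, 10, 18]) = true := by decide +kernel

theorem cov10 : T.cover 10 [(sel (ones 11) ip10 1), (sel (ones 11) ip10 2), (sel (ones 11) ip10 3), (sel (ones 11) ip10 4), (sel (ones 11) ip10 5), (sel (ones 11) ip10 6), (sel (ones 11) ip10 7), (sel (ones 11) ip10 8), (sel (ones 11) ip10 9), (sel (ones 11) ip10 10)] = true := by decide +kernel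

theorem tl10 : T.treeLt 4 10 = true := by decide +kernel

theorem rot11_1 : T.rot 11 [2] (sel (ones 11) ip11 1) = true := by decide +kernel

theorem rot11_1r : band (Rule.ok (2 * 0) EX RL ⟨11 :: [2], [], 45, false⟩) (lall (memL L) [2]) = true := by decide +kernel

theorem rot11_2 : T.rot 11 [11, 11] (sel (ones 11) ip11 2) = true := by decide +kernel

theorem rot11_2r : band (Rule.ok (2 * 0) EX RL ⟨11 :: [11, 11], [], 1, false⟩) (lall (memL L) [11, 11]) = true := by decide +kernel

theorem rot11_3 : T.rot 11 [10, 11, 10] (sel (ones 11) ip11 3) = true := by decide +kernel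

theorem rot11_3r : band (Rule.ok (2 * 0) EX RL ⟨11 :: [10, 11, 10], [3], 9, false⟩) (lall (memL L) [10, 11, 10]) = true := by decide +kernel

theorem rot11_4 : T.rot 11 [12, 11, 12] (sel (ones 11) ip11 4) = true := by decide +kernel

theorem rot11_4r : band (Rule.ok (2 * 0) EX RL ⟨11 :: [12, 11, 12], [], 17, false⟩) (lall (memL L) [12, 11, 12]) = true := by decide +kernel

theorem rot11_5 : T.rot 11 [13, 11, 13] (sel (ones 11) ip11 5) = true := by decide +kernel

theorem rot11_5r : band (Rule.ok (2 * 0) EX RL ⟨11 :: [13, 11, 13], [], 18, false⟩) (lall (memL L) [13, 11, 13]) = true := by decide +kernel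

theorem rot11_6 : T.rot 11 [14, 11, 14] (sel (ones 11) ip11 6) = true := by decide +kernel

theorem rot11_6r : band (Rule.ok (2 * 0) EX RL ⟨11 :: [14, 11, 14], [], 19, false⟩) (lall (memL L) [14, 11, 14]) = true := by decide +kernel

theorem rot11_7 : T.rot 11 [15, 11, 15] (sel (ones 11) ip11 7) = true := by decide +kernel

theorem rot11_7r : band (Rule.ok (2 * 0) EX RL ⟨11 :: [15, 11, 15], [], 20, false⟩) (lall (memL L) [15, 11, 15]) = true := by decide +kernel

theorem rot11_8 : T.rot 11 [16, 11, 16] (sel (ones 11) ip11 8) = true := by decide +kernel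

theorem rot11_8r : band (Rule.ok (2 * 0) EX RL ⟨11 :: [16, 11, 16], [], 21, false⟩) (lall (memL L) [16, 11, 16]) = true := by decide +kernel

theorem rot11_9 : T.rot 11 [17, 11, 17] (sel (ones 11) ip11 9) = true := by decide +kernel

theorem rot11_9r : band (Rule.ok (2 * 0) EX RL ⟨11 :: [17, 11, 17], [], 22, false⟩) (lall (memL L) [17, 11, 17]) = true := by decide +kernel

theorem rot11_10 : T.rot 11 [18, 11, 18] (sel (ones 11) ip11 10) = true := by decide +kernel

theorem rot11_10r : band (Rule.ok (2 * 0) EX RL ⟨11 :: [18, 11, 18], [], 23, false⟩) (lall (memL L) [18, 11, 18]) = true := by decide +kernel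

theorem cov11 : T.cover 11 [(sel (ones 11) ip11 1), (sel (ones 11) ip11 2), (sel (ones 11) ip11 3), (sel (ones 11) ip11 4), (sel (ones 11) ip11 5), (sel (ones 11) ip11 6), (sel (ones 11) ip11 7), (sel (ones 11) ip11 8), (sel (ones 11) ip11 9), (sel (ones 11) ip11 10)] = true := by decide +kernel

theorem tl11 : T.treeLt 4 11 = true := by decide +kernel

theorem rot12_1 : T.rot 12 [3] (sel (ones 11) ip12 1) = true := by decide +kernel

theorem rot12_1r : band (Rule.ok (2 * 0) EX RL ⟨12 :: [3], [], 45, false⟩) (lall (memL L) [3]) = true := by decide +kernel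

theorem rot12_2 : T.rot 12 [12, 12] (sel (ones 11) ip12 2) = true := by decide +kernel

theorem rot12_2r : band (Rule.ok (2 * 0) EX RL ⟨12 :: [12, 12], [], 2, false⟩) (lall (memL L) [12, 12]) = true := by decide +kernel

theorem rot12_3 : T.rot 12 [10, 12, 10] (sel (ones 11) ip12 3) = true := by decide +kernel

theorem rot12_3r : band (Rule.ok (2 * 0) EX RL ⟨12 :: [10, 12, 10], [5], 10, false⟩) (lall (memL L) [10, 12, 10]) = true := by decide +kernel

theorem rot12_4 : T.rot 12 [11, 12, 11] (sel (ones 11) ip12 4) = true := by decide +kernel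

theorem rot12_4r : band (Rule.ok (2 * 0) EX RL ⟨12 :: [11, 12, 11], [5], 17, false⟩) (lall (memL L) [11, 12, 11]) = true := by decide +kernel

theorem rot12_5 : T.rot 12 [13, 12, 13] (sel (ones 11) ip12 5) = true := by decide +kernel

theorem rot12_5r : band (Rule.ok (2 * 0) EX RL ⟨12 :: [13, 12, 13], [], 24, false⟩) (lall (memL L) [13, 12, 13]) = true := by decide +kernel

theorem rot12_6 : T.rot 12 [14, 12, 14] (sel (ones 11) ip12 6) = true := by decide +kernel

theorem rot12_6r : band (Rule.ok (2 * 0) EX RL ⟨12 :: [14, 12, 14], [], 25, false⟩) (lall (memL L) [14, 12, 14]) = true := by decide +kernel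

theorem rot12_7 : T.rot 12 [15, 12, 15] (sel (ones 11) ip12 7) = true := by decide +kernel

theorem rot12_7r : band (Rule.ok (2 * 0) EX RL ⟨12 :: [15, 12, 15], [], 26, false⟩) (lall (memL L) [15, 12, 15]) = true := by decide +kernel

theorem rot12_8 : T.rot 12 [16, 12, 16] (sel (ones 11) ip12 8) = true := by decide +kernel

theorem rot12_8r : band (Rule.ok (2 * 0) EX RL ⟨12 :: [16, 12, 16], [], 27, false⟩) (lall (memL L) [16, 12, 16]) = true := by decide +kernel

theorem rot12_9 : T.rot 12 [17, 12, 17] (sel (ones 11) ip12 9) = true := by decide +kernel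

theorem rot12_9r : band (Rule.ok (2 * 0) EX RL ⟨12 :: [17, 12, 17], [], 28, false⟩) (lall (memL L) [17, 12, 17]) = true := by decide +kernel

theorem rot12_10 : T.rot 12 [18, 12, 18] (sel (ones 11) ip12 10) = true := by decide +kernel

theorem rot12_10r : band (Rule.ok (2 * 0) EX RL ⟨12 :: [18, 12, 18], [], 29, false⟩) (lall (memL L) [18, 12, 18]) = true := by decide +kernel

theorem cov12 : T.cover 12 [(sel (ones 11) ip12 1), (sel (ones 11) ip12 2), (sel (ones 11) ip12 3), (sel (ones 11) ip12 4), (sel (ones 11) ip12 5), (sel (ones 11) ip12 6), (sel (ones 11) ip12 7), (sel (ones 11) ip12 8), (sel (ones 11) ip12 9), (sel (ones 11) ip12 10)] = true := by decide +kernel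

theorem tl12 : T.treeLt 4 12 = true := by decide +kernel

theorem rot13_1 : T.rot 13 [4] (sel (ones 11) ip13 1) = true := by decide +kernel

theorem rot13_1r : band (Rule.ok (2 * 0) EX RL ⟨13 :: [4], [], 45, false⟩) (lall (memL L) [4]) = true := by decide +kernel

theorem rot13_2 : T.rot 13 [13, 13] (sel (ones 11) ip13 2) = true := by decide +kernel

theorem rot13_2r : band (Rule.ok (2 * 0) EX RL ⟨13 :: [13, 13], [], 3, false⟩) (lall (memL L) [13, 13]) = true := by decide +kernel

theorem rot13_3 : T.rot 13 [10, 13, 10] (sel (ones 11) ip13 3) = true := by decide +kernel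

theorem rot13_3r : band (Rule.ok (2 * 0) EX RL ⟨13 :: [10, 13, 10], [7], 11, false⟩) (lall (memL L) [10, 13, 10]) = true := by decide +kernel

theorem rot13_4 : T.rot 13 [11, 13, 11] (sel (ones 11) ip13 4) = true := by decide +kernel

theorem rot13_4r : band (Rule.ok (2 * 0) EX RL ⟨13 :: [11, 13, 11], [7], 18, false⟩) (lall (memL L) [11, 13, 11]) = true := by decide +kernel

theorem rot13_5 : T.rot 13 [12, 13, 12] (sel (ones 11) ip13 5) = true := by decide +kernel

theorem rot13_5r : band (Rule.ok (2 * 0) EX RL ⟨13 :: [12, 13, 12], [7], 24, false⟩) (lall (memL L) [12, 13, 12]) = true := by decide +kernel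

theorem rot13_6 : T.rot 13 [14, 13, 14] (sel (ones 11) ip13 6) = true := by decide +kernel

theorem rot13_6r : band (Rule.ok (2 * 0) EX RL ⟨13 :: [14, 13, 14], [], 30, false⟩) (lall (memL L) [14, 13, 14]) = true := by decide +kernel

theorem rot13_7 : T.rot 13 [15, 13, 15] (sel (ones 11) ip13 7) = true := by decide +kernel

theorem rot13_7r : band (Rule.ok (2 * 0) EX RL ⟨13 :: [15, 13, 15], [], 31, false⟩) (lall (memL L) [15, 13, 15]) = true := by decide +kernel

theorem rot13_8 : T.rot 13 [16, 13, 16] (sel (ones 11) ip13 8) = true := by decide +kernel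

theorem rot13_8r : band (Rule.ok (2 * 0) EX RL ⟨13 :: [16, 13, 16], [], 32, false⟩) (lall (memL L) [16, 13, 16]) = true := by decide +kernel

theorem rot13_9 : T.rot 13 [17, 13, 17] (sel (ones 11) ip13 9) = true := by decide +kernel

theorem rot13_9r : band (Rule.ok (2 * 0) EX RL ⟨13 :: [17, 13, 17], [], 33, false⟩) (lall (memL L) [17, 13, 17]) = true := by decide +kernel

theorem rot13_10 : T.rot 13 [18, 13, 18] (sel (ones 11) ip13 10) = true := by decide +kernel

theorem rot13_10r : band (Rule.ok (2 * 0) EX RL ⟨13 :: [18, 13, 18], [], 34, false⟩) (lall (memL L) [18, 13, 18]) = true := by decide +kernel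

theorem cov13 : T.cover 13 [(sel (ones 11) ip13 1), (sel (ones 11) ip13 2), (sel (ones 11) ip13 3), (sel (ones 11) ip13 4), (sel (ones 11) ip13 5), (sel (ones 11) ip13 6), (sel (ones 11) ip13 7), (sel (ones 11) ip13 8), (sel (ones 11) ip13 9), (sel (ones 11) ip13 10)] = true := by decide +kernel

theorem tl13 : T.treeLt 4 13 = true := by decide +kernel

theorem rot14_1 : T.rot 14 [5] (sel (ones 11) ip14 1) = true := by decide +kernel

theorem rot14_1r : band (Rule.ok (2 * 0) EX RL ⟨14 :: [5], [], 45, false⟩) (lall (memL L) [5]) = true := by decide +kernel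

theorem rot14_2 : T.rot 14 [14, 14] (sel (ones 11) ip14 2) = true := by decide +kernel

theorem rot14_2r : band (Rule.ok (2 * 0) EX RL ⟨14 :: [14, 14], [], 4, false⟩) (lall (memL L) [14, 14]) = true := by decide +kernel

theorem rot14_3 : T.rot 14 [10, 14, 10] (sel (ones 11) ip14 3) = true := by decide +kernel

theorem rot14_3r : band (Rule.ok (2 * 0) EX RL ⟨14 :: [10, 14, 10], [9], 12, false⟩) (lall (memL L) [10, 14, 10]) = true := by decide +kernel

theorem rot14_4 : T.rot 14 [11, 14, 11] (sel (ones 11) ip14 4) = true := by decide +kernel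

theorem rot14_4r : band (Rule.ok (2 * 0) EX RL ⟨14 :: [11, 14, 11], [9], 19, false⟩) (lall (memL L) [11, 14, 11]) = true := by decide +kernel

theorem rot14_5 : T.rot 14 [12, 14, 12] (sel (ones 11) ip14 5) = true := by decide +kernel

theorem rot14_5r : band (Rule.ok (2 * 0) EX RL ⟨14 :: [12, 14, 12], [9], 25, false⟩) (lall (memL L) [12, 14, 12]) = true := by decide +kernel

theorem rot14_6 : T.rot 14 [13, 14, 13] (sel (ones 11) ip14 6) = true := by decide +kernel

theorem rot14_6r : band (Rule.ok (2 * 0) EX RL ⟨14 :: [13, 14, 13], [9], 30, false⟩) (lall (memL L) [13, 14, 13]) = true := by decide +kernel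

theorem rot14_7 : T.rot 14 [15, 14, 15] (sel (ones 11) ip14 7) = true := by decide +kernel

theorem rot14_7r : band (Rule.ok (2 * 0) EX RL ⟨14 :: [15, 14, 15], [], 35, false⟩) (lall (memL L) [15, 14, 15]) = true := by decide +kernel

theorem rot14_8 : T.rot 14 [16, 14, 16] (sel (ones 11) ip14 8) = true := by decide +kernel

theorem rot14_8r : band (Rule.ok (2 * 0) EX RL ⟨14 :: [16, 14, 16], [], 36, false⟩) (lall (memL L) [16, 14, 16]) = true := by decide +kernel

theorem rot14_9 : T.rot 14 [17, 14, 17] (sel (ones 11) ip14 9) = true := by decide +kernel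

theorem rot14_9r : band (Rule.ok (2 * 0) EX RL ⟨14 :: [17, 14, 17], [], 37, false⟩) (lall (memL L) [17, 14, 17]) = true := by decide +kernel

theorem rot14_10 : T.rot 14 [18, 14, 18] (sel (ones 11) ip14 10) = true := by decide +kernel

theorem rot14_10r : band (Rule.ok (2 * 0) EX RL ⟨14 :: [18, 14, 18], [], 38, false⟩) (lall (memL L) [18, 14, 18]) = true := by decide +kernel

theorem cov14 : T.cover 14 [(sel (ones 11) ip14 1), (sel (ones 11) ip14 2), (sel (ones 11) ip14 3), (sel (ones 11) ip14 4), (sel (ones 11) ip14 5), (sel (ones 11) ip14 6), (sel (ones 11) ip14 7), (sel (ones 11) ip14 8), (sel (ones 11) ip14 9), (sel (ones 11) ip14 10)] = true := by decide +kernel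

theorem tl14 : T.treeLt 4 14 = true := by decide +kernel

theorem rot15_1 : T.rot 15 [6] (sel (ones 11) ip15 1) = true := by decide +kernel

theorem rot15_1r : band (Rule.ok (2 * 0) EX RL ⟨15 :: [6], [], 45, false⟩) (lall (memL L) [6]) = true := by decide +kernel

theorem rot15_2 : T.rot 15 [15, 15] (sel (ones 11) ip15 2) = true := by decide +kernel

theorem rot15_2r : band (Rule.ok (2 * 0) EX RL ⟨15 :: [15, 15], [], 5, false⟩) (lall (memL L) [15, 15]) = true := by decide +kernel

theorem rot15_3 : T.rot 15 [10, 15, 10] (sel (ones 11) ip15 3) = true := by decide +kernel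

theorem rot15_3r : band (Rule.ok (2 * 0) EX RL ⟨15 :: [10, 15, 10], [11], 13, false⟩) (lall (memL L) [10, 15, 10]) = true := by decide +kernel

theorem rot15_4 : T.rot 15 [11, 15, 11] (sel (ones 11) ip15 4) = true := by decide +kernel

theorem rot15_4r : band (Rule.ok (2 * 0) EX RL ⟨15 :: [11, 15, 11], [11], 20, false⟩) (lall (memL L) [11, 15, 11]) = true := by decide +kernel

theorem rot15_5 : T.rot 15 [12, 15, 12] (sel (ones 11) ip15 5) = true := by decide +kernel

theorem rot15_5r : band (Rule.ok (2 * 0) EX RL ⟨15 :: [12, 15, 12], [11], 26, false⟩) (lall (memL L) [12, 15, 12]) = true := by decide +kernel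

theorem rot15_6 : T.rot 15 [13, 15, 13] (sel (ones 11) ip15 6) = true := by decide +kernel

theorem rot15_6r : band (Rule.ok (2 * 0) EX RL ⟨15 :: [13, 15, 13], [11], 31, false⟩) (lall (memL L) [13, 15, 13]) = true := by decide +kernel

theorem rot15_7 : T.rot 15 [14, 15, 14] (sel (ones 11) ip15 7) = true := by decide +kernel

theorem rot15_7r : band (Rule.ok (2 * 0) EX RL ⟨15 :: [14, 15, 14], [11], 35, false⟩) (lall (memL L) [14, 15, 14]) = true := by decide +kernel

theorem rot15_8 : T.rot 15 [16, 15, 16] (sel (ones 11) ip15 8) = true := by decide +kernel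

theorem rot15_8r : band (Rule.ok (2 * 0) EX RL ⟨15 :: [16, 15, 16], [], 39, false⟩) (lall (memL L) [16, 15, 16]) = true := by decide +kernel

theorem rot15_9 : T.rot 15 [17, 15, 17] (sel (ones 11) ip15 9) = true := by decide +kernel

theorem rot15_9r : band (Rule.ok (2 * 0) EX RL ⟨15 :: [17, 15, 17], [], 40, false⟩) (lall (memL L) [17, 15, 17]) = true := by decide +kernel

theorem rot15_10 : T.rot 15 [18, 15, 18] (sel (ones 11) ip15 10) = true := by decide +kernel

theorem rot15_10r : band (Rule.ok (2 * 0) EX RL ⟨15 :: [18, 15, 18], [], 41, false⟩) (lall (memL L) [18, 15, 18]) = true := by decide +kernel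

theorem cov15 : T.cover 15 [(sel (ones 11) ip15 1), (sel (ones 11) ip15 2), (sel (ones 11) ip15 3), (sel (ones 11) ip15 4), (sel (ones 11) ip15 5), (sel (ones 11) ip15 6), (sel (ones 11) ip15 7), (sel (ones 11) ip15 8), (sel (ones 11) ip15 9), (sel (ones 11) ip15 10)] = true := by decide +kernel

theorem tl15 : T.treeLt 4 15 = true := by decide +kernel

theorem rot16_1 : T.rot 16 [7] (sel (ones 11) ip16 1) = true := by decide +kernel

theorem rot16_1r : band (Rule.ok (2 * 0) EX RL ⟨16 :: [7], [], 45, false⟩) (lall (memL L) [7]) = true := by decide +kernel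

theorem rot16_2 : T.rot 16 [16, 16] (sel (ones 11) ip16 2) = true := by decide +kernel

theorem rot16_2r : band (Rule.ok (2 * 0) EX RL ⟨16 :: [16, 16], [], 6, false⟩) (lall (memL L) [16, 16]) = true := by decide +kernel

theorem rot16_3 : T.rot 16 [10, 16, 10] (sel (ones 11) ip16 3) = true := by decide +kernel

theorem rot16_3r : band (Rule.ok (2 * 0) EX RL ⟨16 :: [10, 16, 10], [13], 14, false⟩) (lall (memL L) [10, 16, 10]) = true := by decide +kernel

theorem rot16_4 : T.rot 16 [11, 16, 11] (sel (ones 11) ip16 4) = true := by decide +kernel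

theorem rot16_4r : band (Rule.ok (2 * 0) EX RL ⟨16 :: [11, 16, 11], [13], 21, false⟩) (lall (memL L) [11, 16, 11]) = true := by decide +kernel

theorem rot16_5 : T.rot 16 [12, 16, 12] (sel (ones 11) ip16 5) = true := by decide +kernel

theorem rot16_5r : band (Rule.ok (2 * 0) EX RL ⟨16 :: [12, 16, 12], [13], 27, false⟩) (lall (memL L) [12, 16, 12]) = true := by decide +kernel

theorem rot16_6 : T.rot 16 [13, 16, 13] (sel (ones 11) ip16 6) = true := by decide +kernel

theorem rot16_6r : band (Rule.ok (2 * 0) EX RL ⟨16 :: [13, 16, 13], [13], 32, false⟩) (lall (memL L) [13, 16, 13]) = true := by decide +kernel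

theorem rot16_7 : T.rot 16 [14, 16, 14] (sel (ones 11) ip16 7) = true := by decide +kernel

theorem rot16_7r : band (Rule.ok (2 * 0) EX RL ⟨16 :: [14, 16, 14], [13], 36, false⟩) (lall (memL L) [14, 16, 14]) = true := by decide +kernel

theorem rot16_8 : T.rot 16 [15, 16, 15] (sel (ones 11) ip16 8) = true := by decide +kernel

theorem rot16_8r : band (Rule.ok (2 * 0) EX RL ⟨16 :: [15, 16, 15], [13], 39, false⟩) (lall (memL L) [15, 16, 15]) = true := by decide +kernel

theorem rot16_9 : T.rot 16 [17, 16, 17] (sel (ones 11) ip16 9) = true := by decide +kernel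

theorem rot16_9r : band (Rule.ok (2 * 0) EX RL ⟨16 :: [17, 16, 17], [], 42, false⟩) (lall (memL L) [17, 16, 17]) = true := by decide +kernel

theorem rot16_10 : T.rot 16 [18, 16, 18] (sel (ones 11) ip16 10) = true := by decide +kernel

theorem rot16_10r : band (Rule.ok (2 * 0) EX RL ⟨16 :: [18, 16, 18], [], 43, false⟩) (lall (memL L) [18, 16, 18]) = true := by decide +kernel

theorem cov16 : T.cover 16 [(sel (ones 11) ip16 1), (sel (ones 11) ip16 2), (sel (ones 11) ip16 3), (sel (ones 11) ip16 4), (sel (ones 11) ip16 5), (sel (ones 11) ip16 6), (sel (ones 11) ip16 7), (sel (ones 11) ip16 8), (sel (ones 11) ip16 9), (sel (ones 11) ip16 10)] = true := by decide +kernel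

theorem tl16 : T.treeLt 4 16 = true := by decide +kernel

theorem rot17_1 : T.rot 17 [8] (sel (ones 11) ip17 1) = true := by decide +kernel

theorem rot17_1r : band (Rule.ok (2 * 0) EX RL ⟨17 :: [8], [], 45, false⟩) (lall (memL L) [8]) = true := by decide +kernel

theorem rot17_2 : T.rot 17 [17, 17] (sel (ones 11) ip17 2) = true := by decide +kernel

theorem rot17_2r : band (Rule.ok (2 * 0) EX RL ⟨17 :: [17, 17], [], 7, false⟩) (lall (memL L) [17, 17]) = true := by decide +kernel

theorem rot17_3 : T.rot 17 [10, 17, 10] (sel (ones 11) ip17 3) = true := by decide +kernel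

theorem rot17_3r : band (Rule.ok (2 * 0) EX RL ⟨17 :: [10, 17, 10], [15], 15, false⟩) (lall (memL L) [10, 17, 10]) = true := by decide +kernel

theorem rot17_4 : T.rot 17 [11, 17, 11] (sel (ones 11) ip17 4) = true := by decide +kernel

theorem rot17_4r : band (Rule.ok (2 * 0) EX RL ⟨17 :: [11, 17, 11], [15], 22, false⟩) (lall (memL L) [11, 17, 11]) = true := by decide +kernel

theorem rot17_5 : T.rot 17 [12, 17, 12] (sel (ones 11) ip17 5) = true := by decide +kernel

theorem rot17_5r : band (Rule.ok (2 * 0) EX RL ⟨17 :: [12, 17, 12], [15], 28, false⟩) (lall (memL L) [12, 17, 12]) = true := by decide +kernel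

theorem rot17_6 : T.rot 17 [13, 17, 13] (sel (ones 11) ip17 6) = true := by decide +kernel

theorem rot17_6r : band (Rule.ok (2 * 0) EX RL ⟨17 :: [13, 17, 13], [15], 33, false⟩) (lall (memL L) [13, 17, 13]) = true := by decide +kernel

theorem rot17_7 : T.rot 17 [14, 17, 14] (sel (ones 11) ip17 7) = true := by decide +kernel

theorem rot17_7r : band (Rule.ok (2 * 0) EX RL ⟨17 :: [14, 17, 14], [15], 37, false⟩) (lall (memL L) [14, 17, 14]) = true := by decide +kernel

theorem rot17_8 : T.rot 17 [15, 17, 15] (sel (ones 11) ip17 8) = true := by decide +kernel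

theorem rot17_8r : band (Rule.ok (2 * 0) EX RL ⟨17 :: [15, 17, 15], [15], 40, false⟩) (lall (memL L) [15, 17, 15]) = true := by decide +kernel

theorem rot17_9 : T.rot 17 [16, 17, 16] (sel (ones 11) ip17 9) = true := by decide +kernel

theorem rot17_9r : band (Rule.ok (2 * 0) EX RL ⟨17 :: [16, 17, 16], [15], 42, false⟩) (lall (memL L) [16, 17, 16]) = true := by decide +kernel

theorem rot17_10 : T.rot 17 [18, 17, 18] (sel (ones 11) ip17 10) = true := by decide +kernel

theorem rot17_10r : band (Rule.ok (2 * 0) EX RL ⟨17 :: [18, 17, 18], [], 44, false⟩) (lall (memL L) [18, 17, 18]) = true := by decide +kernel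

theorem cov17 : T.cover 17 [(sel (ones 11) ip17 1), (sel (ones 11) ip17 2), (sel (ones 11) ip17 3), (sel (ones 11) ip17 4), (sel (ones 11) ip17 5), (sel (ones 11) ip17 6), (sel (ones 11) ip17 7), (sel (ones 11) ip17 8), (sel (ones 11) ip17 9), (sel (ones 11) ip17 10)] = true := by decide +kernel

theorem tl17 : T.treeLt 4 17 = true := by decide +kernel

theorem rot18_1 : T.rot 18 [9] (sel (ones 11) ip18 1) = true := by decide +kernel

theorem rot18_1r : band (Rule.ok (2 * 0) EX RL ⟨18 :: [9], [], 45, false⟩) (lall (memL L) [9]) = true := by decide +kernel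

theorem rot18_2 : T.rot 18 [18, 18] (sel (ones 11) ip18 2) = true := by decide +kernel

theorem rot18_2r : band (Rule.ok (2 * 0) EX RL ⟨18 :: [18, 18], [], 8, false⟩) (lall (memL L) [18, 18]) = true := by decide +kernel

theorem rot18_3 : T.rot 18 [10, 18, 10] (sel (ones 11) ip18 3) = true := by decide +kernel

theorem rot18_3r : band (Rule.ok (2 * 0) EX RL ⟨18 :: [10, 18, 10], [17], 16, false⟩) (lall (memL L) [10, 18, 10]) = true := by decide +kernel

theorem rot18_4 : T.rot 18 [11, 18, 11] (sel (ones 11) ip18 4) = true := by decide +kernel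

theorem rot18_4r : band (Rule.ok (2 * 0) EX RL ⟨18 :: [11, 18, 11], [17], 23, false⟩) (lall (memL L) [11, 18, 11]) = true := by decide +kernel

theorem rot18_5 : T.rot 18 [12, 18, 12] (sel (ones 11) ip18 5) = true := by decide +kernel

theorem rot18_5r : band (Rule.ok (2 * 0) EX RL ⟨18 :: [12, 18, 12], [17], 29, false⟩) (lall (memL L) [12, 18, 12]) = true := by decide +kernel

theorem rot18_6 : T.rot 18 [13, 18, 13] (sel (ones 11) ip18 6) = true := by decide +kernel

theorem rot18_6r : band (Rule.ok (2 * 0) EX RL ⟨18 :: [13, 18, 13], [17], 34, false⟩) (lall (memL L) [13, 18, 13]) = true := by decide +kernel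

theorem rot18_7 : T.rot 18 [14, 18, 14] (sel (ones 11) ip18 7) = true := by decide +kernel

theorem rot18_7r : band (Rule.ok (2 * 0) EX RL ⟨18 :: [14, 18, 14], [17], 38, false⟩) (lall (memL L) [14, 18, 14]) = true := by decide +kernel

theorem rot18_8 : T.rot 18 [15, 18, 15] (sel (ones 11) ip18 8) = true := by decide +kernel

theorem rot18_8r : band (Rule.ok (2 * 0) EX RL ⟨18 :: [15, 18, 15], [17], 41, false⟩) (lall (memL L) [15, 18, 15]) = true := by decide +kernel

theorem rot18_9 : T.rot 18 [16, 18, 16] (sel (ones 11) ip18 9) = true := by decide +kernel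

theorem rot18_9r : band (Rule.ok (2 * 0) EX RL ⟨18 :: [16, 18, 16], [17], 43, false⟩) (lall (memL L) [16, 18, 16]) = true := by decide +kernel

theorem rot18_10 : T.rot 18 [17, 18, 17] (sel (ones 11) ip18 10) = true := by decide +kernel

theorem rot18_10r : band (Rule.ok (2 * 0) EX RL ⟨18 :: [17, 18, 17], [17], 44, false⟩) (lall (memL L) [17, 18, 17]) = true := by decide +kernel

theorem cov18 : T.cover 18 [(sel (ones 11) ip18 1), (sel (ones 11) ip18 2), (sel (ones 11) ip18 3), (sel (ones 11) ip18 4), (sel (ones 11) ip18 5), (sel (ones 11) ip18 6), (sel (ones 11) ip18 7), (sel (ones 11) ip18 8), (sel (ones 11) ip18 9), (sel (ones 11) ip18 10)] = true := by decide +kernel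

theorem tl18 : T.treeLt 4 18 = true := by decide +kernel

end Cfsg.Agent.Spor.An11
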